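import Groth.Agent.Lib.TorLift24.Open

/-!
# Points of retract rational tori lift to local algebras

Over an infinite residue field every point is a product of two points of the open; over a finite
field this holds after extensions of large prime degree, and a norm brings the lift down.
-/

universe u

open CategoryTheory AlgebraicGeometry MvPolynomial
open scoped TensorProduct

noncomputable section

namespace Groth.Agent.TorLift24

variable {k : Type u} [Field k]

theorem exists_eval_ne_zero {n : ℕ} {K : Type u} [Field K] (h : MvPolynomial (Fin n) K) (h0 : h ≠ 0)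
    (hK : Infinite K ∨ (Finite K ∧ h.totalDegree < Nat.card K)) : ∃ z : Fin n → K, eval z h ≠ 0 := by
  classical
  by_contra hcon
  push Not at hcon
  rcases hK with hinf | ⟨hfin, hcard⟩
  · exact h0 (MvPolynomial.funext fun z => by rw [hcon z, map_zero])
  · haveI := Fintype.ofFinite K
    refine h0 (MvPolynomial.eq_zero_of_eval_zero_at_prod_finset h (fun _ => Finset.univ) (fun i => ?_)
      (fun z _ => hcon z))
    rw [Finset.card_univ, ← Nat.card_eq_fintype_card]
    exact lt_of_le_of_lt (degreeOf_le_totalDegree h i) hcard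

theorem fixed_mem_range {R : Type u} [CommRing R] [Algebra k R] {l : Type*} [Field l] [Algebra k l]
    [FiniteDimensional k l] [IsGalois k l] (y : R ⊗[k] l)
    (hy : ∀ σ : l ≃ₐ[k] l, Algebra.TensorProduct.map (AlgHom.id k R) σ.toAlgHom y = y) :
    ∃ r : R, r ⊗ₜ[k] (1 : l) = y := by
  classical
  let ℬ := Module.Free.chooseBasis k R
  let e := TensorProduct.equivFinsuppOfBasisLeft (N := l) ℬ
  have hnat : ∀ (σ : l ≃ₐ[k] l) (z : R ⊗[k] l) (i),
      e (Algebra.TensorProduct.map (AlgHom.id k R) σ.toAlgHom z) i = σ (e z i) := fun σ z i => by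
    induction z using TensorProduct.induction_on with
    | zero => simp
    | tmul r x => simp [e, TensorProduct.equivFinsuppOfBasisLeft_apply_tmul_apply]
    | add a b ha hb => simp [map_add, ha, hb]
  have hfix : ∀ i, ∃ c : k, algebraMap k l c = e y i := fun i =>
    (IsGalois.mem_range_algebraMap_iff_fixed (F := k) (e y i)).2 fun σ => by rw [← hnat, hy]
  choose c hc using hfix
  refine ⟨∑ i ∈ (e y).support, c i • ℬ i, e.injective (Finsupp.ext fun j => ?_)⟩
  rw [TensorProduct.equivFinsuppOfBasisLeft_apply_tmul_apply, map_sum, Finsupp.finsetSum_apply]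
  simp only [map_smul, Finsupp.smul_apply, Module.Basis.repr_self, smul_eq_mul, Finsupp.single_apply, mul_ite,
    mul_one, mul_zero, Finset.sum_ite_eq']
  split_ifs with h
  · rw [← hc j, Algebra.smul_def, mul_one]
  · rw [Finsupp.notMem_support_iff.1 h, zero_smul]

variable {A : Type u} [CommRing A] [HopfAlgebra k A] [Coalgebra.IsCocomm k A] {n : ℕ}
  {R : Type u} [CommRing R] [IsLocalRing R] [Algebra k R] {κ : Type u} [Field κ] [Algebra k κ]

theorem isLocalRing_tensor (π : R →ₐ[k] κ) (hπ : Function.Surjective π)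
    (hker : RingHom.ker π.toRingHom = IsLocalRing.maximalIdeal R)
    (l : Type u) [Field l] [Algebra k l] [FiniteDimensional k l] (hK : IsField (κ ⊗[k] l)) :
    IsLocalRing (R ⊗[k] l) := by
  let q : R ⊗[k] l →ₐ[k] κ ⊗[k] l := Algebra.TensorProduct.map π (AlgHom.id k l)
  have hq : Function.Surjective q := Algebra.TensorProduct.map_surjective π (AlgHom.id k l) hπ Function.surjective_id
  have hqk : RingHom.ker q =
      (RingHom.ker π).map (Algebra.TensorProduct.includeLeft : R →ₐ[k] R ⊗[k] l) :=
    Algebra.TensorProduct.rTensor_ker π hπ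
  letI := hK.toField
  have hmax : (RingHom.ker q).IsMaximal := RingHom.ker_isMaximal_of_surjective q hq
  refine IsLocalRing.of_unique_max_ideal ⟨RingHom.ker q, hmax, fun M hM => ?_⟩
  haveI := hM
  haveI : Module.Finite R (R ⊗[k] l) := inferInstance
  have hcomap : M.comap (algebraMap R (R ⊗[k] l)) = IsLocalRing.maximalIdeal R :=
    IsLocalRing.eq_maximalIdeal (Ideal.isMaximal_comap_of_isIntegral_of_isMaximal M)
  refine (hmax.eq_of_le hM.ne_top ?_).symm
  rw [hqk, Ideal.map_le_iff_le_comap]
  intro r hr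
  have : r ∈ M.comap (algebraMap R (R ⊗[k] l)) := by rw [hcomap, ← hker]; exact hr
  exact this

/-- A point raised to the degree of a Galois extension lifts, if it lifts after the extension. -/
theorem norm_lift (π : R →ₐ[k] κ) (u : A →ₐ[k] κ) (l : Type u) [Field l] [Algebra k l]
    [FiniteDimensional k l] [IsGalois k l] (s' : A →ₐ[k] R ⊗[k] l)
    (hs' : post (Algebra.TensorProduct.map π (AlgHom.id k l)) (WithConv.toConv s') =
      post (Algebra.TensorProduct.includeLeft : κ →ₐ[k] κ ⊗[k] l) (WithConv.toConv u)) :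
    ∃ s : A →ₐ[k] R, post π (WithConv.toConv s) = WithConv.toConv u ^ Module.finrank k l := by
  classical
  let act : (l ≃ₐ[k] l) → (R ⊗[k] l →ₐ[k] R ⊗[k] l) := fun σ =>
    Algebra.TensorProduct.map (AlgHom.id k R) σ.toAlgHom
  let N : WithConv (A →ₐ[k] R ⊗[k] l) := ∏ σ : l ≃ₐ[k] l, post (act σ) (WithConv.toConv s')
  have hfix : ∀ τ : l ≃ₐ[k] l, post (act τ) N = N := fun τ => by
    rw [map_prod]
    refine Fintype.prod_equiv (Equiv.mulLeft τ) _ _ fun σ => ?_
    apply WithConv.ofConv_injective
    refine AlgHom.ext fun x => ?_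
    show act τ (act σ (s' x)) = act (τ * σ) (s' x)
    exact DFunLike.congr_fun (show (act τ).comp (act σ) = act (τ * σ) from
      Algebra.TensorProduct.ext' fun a b => rfl) (s' x)
  have hrange : ∀ x : A, N.ofConv x ∈ (Algebra.TensorProduct.includeLeft : R →ₐ[k] R ⊗[k] l).range :=
    fun x => fixed_mem_range (N.ofConv x) fun τ => DFunLike.congr_fun (congrArg WithConv.ofConv (hfix τ)) x
  have hinj : Function.Injective (Algebra.TensorProduct.includeLeft : R →ₐ[k] R ⊗[k] l) :=
    Algebra.TensorProduct.includeLeft_injective (algebraMap k l).injective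
  let e := AlgEquiv.ofInjective _ hinj
  let s : A →ₐ[k] R := e.symm.toAlgHom.comp (N.ofConv.codRestrict _ hrange)
  have hs : post (Algebra.TensorProduct.includeLeft : R →ₐ[k] R ⊗[k] l) (WithConv.toConv s) = N := by
    apply WithConv.ofConv_injective
    refine AlgHom.ext fun x => ?_
    exact congrArg Subtype.val (e.apply_symm_apply ⟨N.ofConv x, hrange x⟩)
  refine ⟨s, ?_⟩
  let inK : κ →ₐ[k] κ ⊗[k] l := Algebra.TensorProduct.includeLeft
  have hinK : Function.Injective (post (A := A) inK) := fun a b hab => by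
    apply WithConv.ofConv_injective
    refine AlgHom.ext fun x => Algebra.TensorProduct.includeLeft_injective (S := k) (algebraMap k l).injective ?_
    exact DFunLike.congr_fun (congrArg WithConv.ofConv hab) x
  apply hinK
  let q := Algebra.TensorProduct.map π (AlgHom.id k l)
  have h1 : post inK (post π (WithConv.toConv s)) = post q N := by
    rw [← hs]
    apply WithConv.ofConv_injective
    refine AlgHom.ext fun x => ?_
    exact (Algebra.TensorProduct.map_tmul π (AlgHom.id k l) (s x) 1).symm
  rw [h1, map_prod, map_pow]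
  have h2 : ∀ σ : l ≃ₐ[k] l, post q (post (act σ) (WithConv.toConv s')) = post inK (WithConv.toConv u) :=
    fun σ => by
    let actK := Algebra.TensorProduct.map (AlgHom.id k κ) σ.toAlgHom
    have e1 : q.comp (act σ) = actK.comp q := Algebra.TensorProduct.ext' fun a b => rfl
    calc post q (post (act σ) (WithConv.toConv s')) = post actK (post q (WithConv.toConv s')) := by
          apply WithConv.ofConv_injective
          exact AlgHom.ext fun x => DFunLike.congr_fun e1 (s' x)
      _ = post inK (WithConv.toConv u) := by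
          rw [hs']
          apply WithConv.ofConv_injective
          refine AlgHom.ext fun x => ?_
          show actK (u x ⊗ₜ[k] (1 : l)) = u x ⊗ₜ[k] (1 : l)
          simp [actK]
  rw [Finset.prod_congr rfl (fun σ _ => h2 σ), Finset.prod_const, Finset.card_univ, ← Nat.card_eq_fintype_card,
    IsGalois.card_aut_eq_finrank]

theorem lift_of_decomp [IsDomain A] (ρ : Retr k A n) {R' : Type u} [CommRing R'] [IsLocalRing R']
    [Algebra k R'] {F' : Type u} [Field F'] [Algebra k F'] (π : R' →ₐ[k] F') (hπ : Function.Surjective π)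
    (w₁ w₂ : A →ₐ[k] F') (h₁ : InOp ρ.U w₁) (h₂ : InOp ρ.U w₂) :
    ∃ s : A →ₐ[k] R', post π (WithConv.toConv s) = WithConv.toConv w₁ * WithConv.toConv w₂ := by
  obtain ⟨s₁, e₁⟩ := ρ.lift_of_mem π hπ w₁ h₁
  obtain ⟨s₂, e₂⟩ := ρ.lift_of_mem π hπ w₂ h₂
  refine ⟨(WithConv.toConv s₁ * WithConv.toConv s₂).ofConv, ?_⟩
  rw [WithConv.toConv_ofConv, map_mul]
  exact congrArg₂ (· * ·) (WithConv.ofConv_injective e₁) (WithConv.ofConv_injective e₂)

theorem finrank_lift [IsDomain A] [IsDomain (κ ⊗[k] A)] (ρ : Retr k A n) (π : R →ₐ[k] κ)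
    (hπ : Function.Surjective π) (hker : RingHom.ker π.toRingHom = IsLocalRing.maximalIdeal R)
    (u : A →ₐ[k] κ) [Finite κ] (h : MvPolynomial (Fin n) κ) (h0 : h ≠ 0)
    (hh : ∀ (F' : Type u) [Field F'] [Algebra k F'] [Algebra κ F'] [IsScalarTower k κ F'] (z : Fin n → F'),
      aeval z h ≠ 0 → ∃ v w : A →ₐ[k] F', InOp ρ.U v ∧ InOp ρ.U w ∧
        WithConv.toConv v * WithConv.toConv w = post (IsScalarTower.toAlgHom k κ F') (WithConv.toConv u))
    (l : Type u) [Field l] [Algebra k l] [FiniteDimensional k l] [IsGalois k l]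
    (hcop : (Module.finrank k κ).Coprime (Module.finrank k l)) (hbig : h.totalDegree < Nat.card l) :
    ∃ s : A →ₐ[k] R, post π (WithConv.toConv s) = WithConv.toConv u ^ Module.finrank k l := by
  haveI : Module.Finite k κ := Module.Finite.of_finite
  let E := AlgebraicClosure κ
  have hK : IsField (κ ⊗[k] l) := by
    let fb : l →ₐ[k] E := IsAlgClosed.lift
    let fa : κ →ₐ[k] E := IsScalarTower.toAlgHom k κ E
    refine IntermediateField.LinearDisjoint.isField_of_isAlgebraic' (fa := fa) (fb := fb) ?_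
      (Or.inl inferInstance)
    refine IntermediateField.LinearDisjoint.of_finrank_coprime ?_
    show (Module.finrank k fa.range).Coprime (Module.finrank k fb.range)
    rw [← (AlgEquiv.ofInjectiveField fa).toLinearEquiv.finrank_eq,
      ← (AlgEquiv.ofInjectiveField fb).toLinearEquiv.finrank_eq]
    exact hcop
  haveI : IsLocalRing (R ⊗[k] l) := isLocalRing_tensor π hπ hker l hK
  letI : Field (κ ⊗[k] l) := hK.toField
  haveI : Module.Finite κ (κ ⊗[k] l) := inferInstance
  haveI : Finite (κ ⊗[k] l) := Module.finite_of_finite κ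
  have hcard : Nat.card l ≤ Nat.card (κ ⊗[k] l) :=
    Nat.card_le_card_of_injective _ (Algebra.TensorProduct.includeRight_injective (A := κ) (B := l)
      (algebraMap k κ).injective)
  let hk' := MvPolynomial.map (algebraMap κ (κ ⊗[k] l)) h
  have hk0 : hk' ≠ 0 := fun e => h0 (MvPolynomial.map_injective _ (algebraMap κ (κ ⊗[k] l)).injective
    (by rw [map_zero]; exact e))
  have htd : hk'.totalDegree ≤ h.totalDegree := by
    refine Finset.sup_mono ?_
    exact MvPolynomial.support_map_subset _ _
  obtain ⟨z, hz⟩ := exists_eval_ne_zero hk' hk0 (Or.inr ⟨inferInstance, lt_of_le_of_lt htd (hbig.trans_le hcard)⟩)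
  rw [MvPolynomial.eval_map] at hz
  obtain ⟨v, w, hv, hw, hvw⟩ := hh (κ ⊗[k] l) z hz
  let q : R ⊗[k] l →ₐ[k] κ ⊗[k] l := Algebra.TensorProduct.map π (AlgHom.id k l)
  have hq : Function.Surjective q := Algebra.TensorProduct.map_surjective π (AlgHom.id k l) hπ Function.surjective_id
  obtain ⟨s', hs'⟩ := lift_of_decomp ρ q hq v w hv hw
  refine norm_lift π u l s' ?_
  rw [hs', hvw]
  rfl

/-- Every residual point of a retract rational torus lifts. -/
theorem exists_lift [IsDomain A] [IsDomain (κ ⊗[k] A)] (ρ : Retr k A n) (π : R →ₐ[k] κ)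
    (hπ : Function.Surjective π) (u : A →ₐ[k] κ) : ∃ s : A →ₐ[k] R, π.comp s = u := by
  have hker : RingHom.ker π.toRingHom = IsLocalRing.maximalIdeal R :=
    IsLocalRing.eq_maximalIdeal (RingHom.ker_isMaximal_of_surjective π.toRingHom hπ)
  obtain ⟨h, h0, hh⟩ := exists_decomp ρ u
  rcases finite_or_infinite κ with hfin | hinf
  · haveI : Finite k := Finite.of_injective _ (algebraMap k κ).injective
    haveI : Module.Finite k κ := Module.Finite.of_finite
    let p := ringChar k
    haveI : Fact p.Prime := ⟨CharP.char_is_prime k p⟩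
    obtain ⟨m₁, hm₁, hp₁⟩ := Nat.exists_infinite_primes (Module.finrank k κ + h.totalDegree + 1)
    obtain ⟨m₂, hm₂, hp₂⟩ := Nat.exists_infinite_primes (m₁ + 1)
    have key : ∀ m : ℕ, m.Prime → Module.finrank k κ + h.totalDegree + 1 ≤ m →
        ∃ s : A →ₐ[k] R, post π (WithConv.toConv s) = WithConv.toConv u ^ m := by
      intro m hm hge
      haveI : NeZero m := ⟨hm.ne_zero⟩
      let l₀ := FiniteField.Extension k p m
      let l := ULift.{u} l₀
      have hfr : Module.finrank k l = m := by
        rw [(ULift.algEquiv (R := k) (A := l₀)).toLinearEquiv.finrank_eq, FiniteField.finrank_extension]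
      haveI : FiniteDimensional k l := Module.finite_of_finrank_pos (by rw [hfr]; exact hm.pos)
      haveI : IsGalois k l := IsGalois.of_algEquiv (ULift.algEquiv (R := k) (A := l₀)).symm
      obtain ⟨s, hs⟩ := finrank_lift ρ π hπ hker u h h0 hh l (by
          rw [hfr, Nat.coprime_comm]
          refine (hm.coprime_iff_not_dvd).2 (Nat.not_dvd_of_pos_of_lt Module.finrank_pos (by omega)))
        (by
          rw [Module.natCard_eq_pow_finrank (K := k), hfr]
          calc h.totalDegree < m := by omega
            _ < 2 ^ m := Nat.lt_two_pow_self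
            _ ≤ Nat.card k ^ m := Nat.pow_le_pow_left Finite.one_lt_card m)
      exact ⟨s, by rw [hs, hfr]⟩
    obtain ⟨s₁, e₁⟩ := key m₁ hp₁ hm₁
    obtain ⟨s₂, e₂⟩ := key m₂ hp₂ (by omega)
    have hco : Nat.Coprime m₁ m₂ := (Nat.coprime_primes hp₁ hp₂).2 (by omega)
    have hb : (m₁ : ℤ) * Nat.gcdA m₁ m₂ + (m₂ : ℤ) * Nat.gcdB m₁ m₂ = 1 := by
      rw [← Nat.gcd_eq_gcd_ab, hco.gcd_eq_one, Nat.cast_one]
    refine ⟨(WithConv.toConv s₁ ^ Nat.gcdA m₁ m₂ * WithConv.toConv s₂ ^ Nat.gcdB m₁ m₂).ofConv, ?_⟩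
    have e : post π (WithConv.toConv s₁ ^ Nat.gcdA m₁ m₂ * WithConv.toConv s₂ ^ Nat.gcdB m₁ m₂) =
        WithConv.toConv u := by
      rw [map_mul, map_zpow, map_zpow, e₁, e₂, ← zpow_natCast, ← zpow_natCast, ← zpow_mul, ← zpow_mul,
        ← zpow_add, hb, zpow_one]
    exact congrArg WithConv.ofConv e
  · obtain ⟨z, hz⟩ := exists_eval_ne_zero h h0 (Or.inl hinf)
    obtain ⟨v, w, hv, hw, hvw⟩ := hh κ z (by rwa [MvPolynomial.aeval_eq_eval₂Hom])
    obtain ⟨s, hs⟩ := lift_of_decomp ρ π hπ v w hv hw
    refine ⟨s, congrArg WithConv.ofConv (hs.trans (hvw.trans ?_))⟩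
    apply WithConv.ofConv_injective
    exact AlgHom.ext fun x => rfl

end Groth.Agent.TorLift24
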