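import Mathlib

/-!
# Retractions onto an open part of an affine space: lifting and specialising points
-/

universe u

open CategoryTheory AlgebraicGeometry MvPolynomial
open scoped TensorProduct

noncomputable section

namespace Groth.Agent.TorLift24

variable {k : Type u} [Field k] {A : Type u} [CommRing A] [HopfAlgebra k A] [Coalgebra.IsCocomm k A]
  {n : ℕ}

section Inv

open WithConv

/-- Inverse of points of a commutative Hopf algebra with values in any commutative algebra. -/
instance instCommGroupPts {C : Type u} [CommRing C] [Algebra k C] : CommGroup (WithConv (A →ₐ[k] C)) :=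
  { (inferInstance : CommMonoid (WithConv (A →ₐ[k] C))) with
    inv := fun f => toConv (f.ofConv.comp (HopfAlgebra.antipodeAlgHom k A))
    inv_mul_cancel := fun f => by
      have h : toConv (f.ofConv.comp (HopfAlgebra.antipodeAlgHom k A)) * toConv (f.ofConv.comp (AlgHom.id k A)) =
          toConv (f.ofConv.comp (1 : WithConv (A →ₐ[k] A)).ofConv) := by
        have h2 := AlgHom.comp_convMul_distrib f.ofConv (toConv (HopfAlgebra.antipodeAlgHom k A)) (toConv (AlgHom.id k A))
        rw [AlgHom.antipode_id_cancel] at h2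
        exact (congrArg toConv h2).symm
      show toConv (f.ofConv.comp (HopfAlgebra.antipodeAlgHom k A)) * f = 1
      rw [AlgHom.comp_id, toConv_ofConv] at h
      rw [h]
      refine congrArg toConv (AlgHom.ext fun x => ?_)
      simp }

end Inv

/-- The morphism of spectra of a point. -/
abbrev sm {B C : Type u} [CommRing B] [CommRing C] [Algebra k B] [Algebra k C] (v : B →ₐ[k] C) :
    Spec (CommRingCat.of C) ⟶ Spec (CommRingCat.of B) :=
  Spec.map (CommRingCat.ofHom v.toRingHom)

omit [HopfAlgebra k A] [Coalgebra.IsCocomm k A] in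
theorem sm_comp {B C E : Type u} [CommRing B] [CommRing C] [CommRing E] [Algebra k B] [Algebra k C] [Algebra k E]
    (f : C →ₐ[k] E) (g : B →ₐ[k] C) : sm (f.comp g) = sm f ≫ sm g :=
  (congrArg Spec.map (show CommRingCat.ofHom (f.comp g).toRingHom =
    CommRingCat.ofHom g.toRingHom ≫ CommRingCat.ofHom f.toRingHom from rfl)).trans (Spec.map_comp _ _)

omit [HopfAlgebra k A] [Coalgebra.IsCocomm k A] in
theorem sm_injective {B C : Type u} [CommRing B] [CommRing C] [Algebra k B] [Algebra k C] {f g : B →ₐ[k] C}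
    (h : sm f = sm g) : f = g :=
  AlgHom.ext fun x => congrArg (fun q : CommRingCat.of B ⟶ CommRingCat.of C => q.hom x) (Spec.map_injective h)

omit [HopfAlgebra k A] [Coalgebra.IsCocomm k A] in
theorem exists_away_lift {B C : Type u} [CommRing B] [CommRing C] [Algebra k B] [Algebra k C] (h : B)
    (e : B →ₐ[k] C) (he : IsUnit (e.toRingHom h)) :
    ∃ e' : Localization.Away h →ₐ[k] C, e'.comp (IsScalarTower.toAlgHom k B (Localization.Away h)) = e := by
  refine ⟨{ IsLocalization.Away.lift h he with commutes' := fun c => ?_ }, ?_⟩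
  · show IsLocalization.Away.lift h he (algebraMap k (Localization.Away h) c) = _
    rw [IsScalarTower.algebraMap_apply k B, IsLocalization.Away.lift_eq]
    exact e.commutes c
  · exact AlgHom.ext fun x => IsLocalization.Away.lift_eq h he x

/-- The whole point lies in an open set. -/
abbrev InOp {B C : Type u} [CommRing B] [CommRing C] [Algebra k B] [Algebra k C]
    (U : (Spec (CommRingCat.of B)).Opens) (v : B →ₐ[k] C) : Prop :=
  Set.range (sm v) ⊆ (U : Set (Spec (CommRingCat.of B)))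

/-- Composition of points with an algebra map, as a homomorphism of convolution groups. -/
def post {R R' : Type u} [CommRing R] [CommRing R'] [Algebra k R] [Algebra k R'] (h : R →ₐ[k] R') :
    WithConv (A →ₐ[k] R) →* WithConv (A →ₐ[k] R') :=
  MonoidHom.mk' (fun f : WithConv (A →ₐ[k] R) => WithConv.toConv (h.comp f.ofConv)) fun f g => by
    apply WithConv.ofConv_injective
    exact AlgHom.comp_convMul_distrib h f g

/-- A retraction of an open of `Spec A` onto an open of affine space. -/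
structure Retr (k : Type u) [Field k] (A : Type u) [CommRing A] [Algebra k A] (n : ℕ) where
  U : (Spec (CommRingCat.of A)).Opens
  ne : (U : Set (Spec (CommRingCat.of A))).Nonempty
  Y : (Spec (CommRingCat.of (MvPolynomial (Fin n) k))).Opens
  a : (U : Scheme.{u}) ⟶ (Y : Scheme.{u})
  b : (Y : Scheme.{u}) ⟶ (U : Scheme.{u})
  hab : a ≫ b = 𝟙 _
  ha : a ≫ Y.ι ≫ Spec.map (CommRingCat.ofHom (algebraMap k (MvPolynomial (Fin n) k))) =
    U.ι ≫ Spec.map (CommRingCat.ofHom (algebraMap k A))
  hb : b ≫ U.ι ≫ Spec.map (CommRingCat.ofHom (algebraMap k A)) =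
    Y.ι ≫ Spec.map (CommRingCat.ofHom (algebraMap k (MvPolynomial (Fin n) k)))

namespace Retr

variable (ρ : Retr k A n) {R R' : Type u} [CommRing R] [Algebra k R] [CommRing R'] [Algebra k R']

omit [Coalgebra.IsCocomm k A] in
theorem exists_hom {B : Type u} [CommRing B] [Algebra k B]
    (m : Spec (CommRingCat.of R) ⟶ Spec (CommRingCat.of B))
    (hm : m ≫ Spec.map (CommRingCat.ofHom (algebraMap k B)) = Spec.map (CommRingCat.ofHom (algebraMap k R))) :
    ∃ v : B →ₐ[k] R, sm v = m := by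
  obtain ⟨f, rfl⟩ := Spec.map_surjective m
  rw [← Spec.map_comp] at hm
  have hc : ∀ c : k, f.hom (algebraMap k B c) = algebraMap k R c := fun c =>
    congrArg (fun q : CommRingCat.of k ⟶ CommRingCat.of R => q.hom c) (Spec.map_injective hm)
  exact ⟨{ f.hom with commutes' := hc }, rfl⟩

omit [Coalgebra.IsCocomm k A] in
/-- The point of the source attached to a point of the open of affine space. -/
theorem exists_b (g : MvPolynomial (Fin n) k →ₐ[k] R) (hg : InOp ρ.Y g) :
    ∃ v : A →ₐ[k] R, ∃ l : Spec (CommRingCat.of R) ⟶ (ρ.Y : Scheme.{u}),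
      l ≫ ρ.Y.ι = sm g ∧ sm v = l ≫ ρ.b ≫ ρ.U.ι ∧ InOp ρ.U v := by
  let l := IsOpenImmersion.lift ρ.Y.ι (sm g) (by rw [Scheme.Opens.range_ι]; exact hg)
  have hl : l ≫ ρ.Y.ι = sm g := IsOpenImmersion.lift_fac _ _ _
  obtain ⟨v, hv⟩ := exists_hom (l ≫ ρ.b ≫ ρ.U.ι) (by
    rw [Category.assoc, Category.assoc, ρ.hb, reassoc_of% hl, ← Spec.map_comp]
    exact congrArg Spec.map (CommRingCat.hom_ext (RingHom.ext fun c => g.commutes c)))
  refine ⟨v, l, hl, hv, ?_⟩
  show Set.range (sm v) ⊆ _
  rw [hv]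
  rintro _ ⟨z, rfl⟩
  exact ((l ≫ ρ.b) z).2

omit [Coalgebra.IsCocomm k A] in
/-- The coordinates of a point of the open. -/
theorem exists_a (u : A →ₐ[k] R) (hu : InOp ρ.U u) :
    ∃ g : MvPolynomial (Fin n) k →ₐ[k] R, InOp ρ.Y g ∧
      ∀ l : Spec (CommRingCat.of R) ⟶ (ρ.Y : Scheme.{u}), l ≫ ρ.Y.ι = sm g → l ≫ ρ.b ≫ ρ.U.ι = sm u := by
  let lu := IsOpenImmersion.lift ρ.U.ι (sm u) (by rw [Scheme.Opens.range_ι]; exact hu)
  have hlu : lu ≫ ρ.U.ι = sm u := IsOpenImmersion.lift_fac _ _ _
  obtain ⟨g, hg⟩ := exists_hom ((lu ≫ ρ.a) ≫ ρ.Y.ι) (by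
    rw [Category.assoc, Category.assoc, ρ.ha, reassoc_of% hlu, ← Spec.map_comp]
    exact congrArg Spec.map (CommRingCat.hom_ext (RingHom.ext fun c => u.commutes c)))
  refine ⟨g, ?_, fun l hl => ?_⟩
  · show Set.range (sm g) ⊆ _
    rw [hg]
    rintro _ ⟨z, rfl⟩
    exact ((lu ≫ ρ.a) z).2
  · have : l = lu ≫ ρ.a := by rw [← cancel_mono ρ.Y.ι, hl, hg]
    rw [this, Category.assoc, reassoc_of% ρ.hab, hlu]

omit [Coalgebra.IsCocomm k A] in
/-- Points of the open lift to local algebras. -/
theorem lift_of_mem [IsLocalRing R] {κ : Type u} [Field κ] [Algebra k κ] (π : R →ₐ[k] κ)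
    (hπ : Function.Surjective π) (u : A →ₐ[k] κ) (hu : InOp ρ.U u) :
    ∃ s : A →ₐ[k] R, π.comp s = u := by
  obtain ⟨g, hg, hgu⟩ := ρ.exists_a u hu
  choose r hr using fun i => hπ (g (X i))
  let G : MvPolynomial (Fin n) k →ₐ[k] R := aeval r
  have hG : π.comp G = g := MvPolynomial.algHom_ext fun i => by simp [G, hr]
  have hsm : sm π ≫ sm G = sm g := by rw [← hG]; exact (Spec.map_comp _ _).symm
  have hc : InOp ρ.Y G := by
    rintro _ ⟨z, rfl⟩
    have h0 : sm g (IsLocalRing.closedPoint κ) ∈ ρ.Y := hg ⟨_, rfl⟩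
    rw [← hsm] at h0
    have h1 : sm π (IsLocalRing.closedPoint κ) = IsLocalRing.closedPoint R := by
      haveI : IsLocalHom π.toRingHom := Function.Surjective.isLocalHom _ hπ
      exact IsLocalRing.comap_closedPoint π.toRingHom
    change sm G (sm π (IsLocalRing.closedPoint κ)) ∈ ρ.Y at h0
    rw [h1] at h0
    exact ((IsLocalRing.specializes_closedPoint z).map (sm G).continuous).mem_open ρ.Y.isOpen h0
  obtain ⟨s, l, hl, hs, -⟩ := ρ.exists_b G hc
  refine ⟨s, ?_⟩
  have h := hgu (sm π ≫ l) (by rw [Category.assoc, hl, hsm])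
  rw [Category.assoc, ← hs] at h
  have h' : CommRingCat.ofHom (π.comp s).toRingHom = CommRingCat.ofHom u.toRingHom :=
    Spec.map_injective ((Spec.map_comp _ _).trans h)
  exact AlgHom.ext fun x => congrArg (fun q : CommRingCat.of A ⟶ CommRingCat.of κ => q.hom x) h'

end Retr

/-- The inversion followed by translation is injective on the universal point. -/
theorem psi_injective {F : Type u} [Field F] [Algebra k F] (u : A →ₐ[k] F) :
    Function.Injective (post (IsScalarTower.toAlgHom k F (F ⊗[k] A)) (WithConv.toConv u) *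
      (WithConv.toConv (Algebra.TensorProduct.includeRight : A →ₐ[k] F ⊗[k] A))⁻¹).ofConv := by
  let D := F ⊗[k] A
  let ι : A →ₐ[k] D := Algebra.TensorProduct.includeRight
  let jF : F →ₐ[k] D := IsScalarTower.toAlgHom k F D
  let ψc : WithConv (A →ₐ[k] D) := post jF (WithConv.toConv u) * (WithConv.toConv ι)⁻¹
  let ψ := ψc.ofConv
  let θ : D →ₐ[F] D := Algebra.TensorProduct.lift (Algebra.ofId F D) ψ (fun _ _ => Commute.all _ _)
  let θk : D →ₐ[k] D := θ.restrictScalars k
  have e1 : post θk (post jF (WithConv.toConv u)) = post jF (WithConv.toConv u) := by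
    apply WithConv.ofConv_injective
    refine AlgHom.ext fun x => ?_
    exact θ.commutes (u x)
  have e2 : post θk (WithConv.toConv ι) = ψc := by
    apply WithConv.ofConv_injective
    refine AlgHom.ext fun x => ?_
    show θ ((1 : F) ⊗ₜ[k] x) = ψ x
    rw [Algebra.TensorProduct.lift_tmul, map_one, one_mul]
  have h : post θk ψc = WithConv.toConv ι := by
    show post θk (post jF (WithConv.toConv u) * (WithConv.toConv ι)⁻¹) = _
    rw [map_mul, map_inv, e1, e2]
    show _ * (post jF (WithConv.toConv u) * (WithConv.toConv ι)⁻¹)⁻¹ = _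
    rw [mul_inv_rev, inv_inv, mul_comm (WithConv.toConv ι), mul_inv_cancel_left]
  have hι : Function.Injective ι := Algebra.TensorProduct.includeRight_injective (algebraMap k F).injective
  intro a b hab
  refine hι ?_
  have ha := DFunLike.congr_fun (congrArg WithConv.ofConv h) a
  have hb := DFunLike.congr_fun (congrArg WithConv.ofConv h) b
  exact ha.symm.trans ((congrArg θk hab).trans hb)

set_option maxHeartbeats 400000 in
/-- A generic specialisation writes every point as a product of two points of the open. -/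
theorem exists_decomp {F : Type u} [Field F] [Algebra k F] [IsDomain A] [IsDomain (F ⊗[k] A)]
    (ρ : Retr k A n) (u : A →ₐ[k] F) :
    ∃ h : MvPolynomial (Fin n) F, h ≠ 0 ∧ ∀ (F' : Type u) [Field F'] [Algebra k F'] [Algebra F F']
      [IsScalarTower k F F'] (z : Fin n → F'), aeval z h ≠ 0 →
      ∃ v w : A →ₐ[k] F', InOp ρ.U v ∧ InOp ρ.U w ∧
        WithConv.toConv v * WithConv.toConv w = post (IsScalarTower.toAlgHom k F F') (.toConv u) := by
  let D := F ⊗[k] A
  let L := FractionRing D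
  let ι : A →ₐ[k] D := Algebra.TensorProduct.includeRight
  let jF : F →ₐ[k] D := IsScalarTower.toAlgHom k F D
  let ψc : WithConv (A →ₐ[k] D) := post jF (.toConv u) * (WithConv.toConv ι)⁻¹
  let ψ := ψc.ofConv
  have hι : Function.Injective ι := Algebra.TensorProduct.includeRight_injective (algebraMap k F).injective
  have hψ : Function.Injective ψ := psi_injective u
  let εL : D →ₐ[k] L := IsScalarTower.toAlgHom k D L
  have hεL : Function.Injective εL := IsFractionRing.injective D L
  obtain ⟨x₀, hx₀⟩ := ρ.ne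
  have hgen : ∀ v : A →ₐ[k] L, Function.Injective v → InOp ρ.U v := by
    rintro v hv _ ⟨z, rfl⟩
    have h : (sm v) z ⤳ x₀ := by
      refine (PrimeSpectrum.le_iff_specializes _ _).1 (fun a ha => ?_)
      have h0 : v a ∈ z.asIdeal := ha
      rw [show z.asIdeal = ⊥ from (Ideal.eq_bot_or_top z.asIdeal).resolve_right z.2.ne_top,
        Ideal.mem_bot] at h0
      rw [hv (h0.trans (map_zero v).symm)]
      exact zero_mem _
    exact h.mem_open ρ.U.isOpen hx₀
  have hιL : InOp ρ.U (εL.comp ι) := hgen _ (hεL.comp hι)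
  obtain ⟨g₀, hg₀, hg₀u⟩ := ρ.exists_a (εL.comp ι) hιL
  let P := MvPolynomial (Fin n) F
  let γ : MvPolynomial (Fin n) k →ₐ[k] P := aeval X
  let z₀ : Fin n → L := fun i => g₀ (X i)
  let e₀ : P →ₐ[k] L := (aeval z₀ : P →ₐ[F] L).restrictScalars k
  have he₀ : e₀.comp γ = g₀ := MvPolynomial.algHom_ext fun i => by
    show (aeval z₀ : P →ₐ[F] L) (aeval (R := k) (X : Fin n → P) (X i)) = g₀ (X i)
    rw [aeval_X, aeval_X]
  let p₀ : Spec (CommRingCat.of P) := sm e₀ (IsLocalRing.closedPoint L)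
  have hp₀ : p₀ ∈ sm γ ⁻¹ᵁ ρ.Y := by
    show sm γ (sm e₀ (IsLocalRing.closedPoint L)) ∈ ρ.Y
    have : sm e₀ ≫ sm γ = sm g₀ := by rw [← he₀]; exact (Spec.map_comp _ _).symm
    exact hg₀ ⟨IsLocalRing.closedPoint L, by rw [← this]; rfl⟩
  obtain ⟨_, ⟨h, rfl⟩, hhp, hhle⟩ := PrimeSpectrum.isTopologicalBasis_basic_opens.exists_subset_of_mem_open
    hp₀ (sm γ ⁻¹ᵁ ρ.Y).isOpen
  let Q := Localization.Away h
  let αQ : P →ₐ[k] Q := IsScalarTower.toAlgHom k P Q
  have hY : InOp ρ.Y (αQ.comp γ) := by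
    rintro _ ⟨z, rfl⟩
    have hz : sm αQ z ∈ (PrimeSpectrum.basicOpen h : Set (PrimeSpectrum P)) := by
      rw [← PrimeSpectrum.localization_away_comap_range Q h]
      exact ⟨z, rfl⟩
    exact hhle hz
  obtain ⟨B, l, hl, hB, hBU⟩ := ρ.exists_b _ hY
  have he₀h : IsUnit (e₀.toRingHom h) := by
    refine isUnit_iff_ne_zero.2 fun h0 => hhp ?_
    show e₀ h ∈ (IsLocalRing.maximalIdeal L)
    rw [show e₀ h = 0 from h0]; exact zero_mem _
  obtain ⟨eQ, heQ⟩ : ∃ eQ : Q →ₐ[k] L, eQ.comp αQ = e₀ := exists_away_lift h e₀ he₀h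
  have hBL : eQ.comp B = εL.comp ι := by
    have h1 := hg₀u (sm eQ ≫ l) (by
      rw [Category.assoc, hl, ← sm_comp, ← AlgHom.comp_assoc, heQ, he₀])
    rw [Category.assoc, ← hB, ← sm_comp] at h1
    exact sm_injective h1
  let jQ : F →ₐ[k] Q := αQ.comp (IsScalarTower.toAlgHom k F P)
  let ψQ : WithConv (A →ₐ[k] Q) := post jQ (.toConv u) * (WithConv.toConv B)⁻¹
  have hψL : post eQ ψQ = post εL ψc := by
    rw [map_mul, map_mul, map_inv, map_inv]
    refine congrArg₂ (· * ·) ?_ (congrArg (·⁻¹) (WithConv.ofConv_injective hBL))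
    apply WithConv.ofConv_injective
    refine AlgHom.ext fun x => ?_
    show eQ (αQ (algebraMap F P (u x))) = algebraMap D L (algebraMap F D (u x))
    rw [← IsScalarTower.algebraMap_apply F D L]
    exact (DFunLike.congr_fun heQ _).trans ((aeval z₀ : P →ₐ[F] L).commutes _)
  let q₀ : Spec (CommRingCat.of Q) := sm eQ (IsLocalRing.closedPoint L)
  have hq₀ : q₀ ∈ sm ψQ.ofConv ⁻¹ᵁ ρ.U := by
    show sm ψQ.ofConv (sm eQ (IsLocalRing.closedPoint L)) ∈ ρ.U
    have h1 : eQ.comp ψQ.ofConv = εL.comp ψ := congrArg WithConv.ofConv hψL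
    have h2 : sm eQ ≫ sm ψQ.ofConv = sm (εL.comp ψ) := by rw [← h1]; exact (Spec.map_comp _ _).symm
    exact hgen _ (hεL.comp hψ) ⟨IsLocalRing.closedPoint L, by rw [← h2]; rfl⟩
  obtain ⟨_, ⟨g, rfl⟩, hgq, hgle⟩ := PrimeSpectrum.isTopologicalBasis_basic_opens.exists_subset_of_mem_open
    hq₀ (sm ψQ.ofConv ⁻¹ᵁ ρ.U).isOpen
  obtain ⟨⟨g', m⟩, hg'⟩ := IsLocalization.surj (Submonoid.powers h) g
  refine ⟨h * g', ?_, fun F' _ _ _ _ z hz => ?_⟩
  · refine mul_ne_zero (fun h0 => he₀h.ne_zero (by rw [h0, map_zero])) fun h0 => hgq ?_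
    show eQ g ∈ IsLocalRing.maximalIdeal L
    have h1 := congrArg eQ hg'
    rw [map_mul] at h1
    have h2 : eQ (algebraMap P Q g') = 0 := by rw [h0, map_zero, map_zero]
    rw [h2] at h1
    have hu : IsUnit (eQ (algebraMap P Q m)) := (IsLocalization.map_units Q m).map eQ
    rw [hu.mul_left_eq_zero.1 h1]; exact zero_mem _
  · rw [map_mul, mul_ne_zero_iff] at hz
    let e' : P →ₐ[k] F' := (aeval z : P →ₐ[F] F').restrictScalars k
    have he'h : IsUnit (e'.toRingHom h) := isUnit_iff_ne_zero.2 hz.1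
    obtain ⟨eF, heF⟩ : ∃ eF : Q →ₐ[k] F', eF.comp αQ = e' := exists_away_lift h e' he'h
    refine ⟨eF.comp B, (post eF ψQ).ofConv, ?_, ?_, ?_⟩
    · rintro _ ⟨t, rfl⟩
      exact hBU ⟨sm eF t, rfl⟩
    · rintro _ ⟨t, rfl⟩
      refine hgle (a := sm eF t) fun hmem => ?_
      have h0 : eF g = 0 := by
        have : eF g ∈ t.asIdeal := hmem
        rwa [(Ideal.eq_bot_or_top t.asIdeal).resolve_right t.2.ne_top, Ideal.mem_bot] at this
      have h1 := congrArg eF hg'
      rw [map_mul, h0, zero_mul] at h1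
      exact hz.2 ((DFunLike.congr_fun heF g').symm.trans h1.symm)
    · show post eF (WithConv.toConv B) * post eF ψQ = _
      rw [map_mul, map_inv, mul_comm, inv_mul_cancel_right]
      apply WithConv.ofConv_injective
      refine AlgHom.ext fun x => ?_
      show eF (αQ (algebraMap F P (u x))) = algebraMap F F' (u x)
      exact (DFunLike.congr_fun heF _).trans ((aeval z : P →ₐ[F] F').commutes _)

end Groth.Agent.TorLift24
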